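import Mathlib
import Groth.Prelude.Def_DCoh4
import Groth.Agent.Lib.Helper5.RHomQC.UnitTen
import Groth.Agent.Lib.Helper5.RHomQC.Shriek1

/-!
# `O_X[-i] ⊗^L K ≅ K[-i]` (helper5)
-/
set_option autoImplicit false
set_option linter.unusedSectionVars false
set_option linter.unusedVariables false
universe u
open CategoryTheory CategoryTheory.Limits AlgebraicGeometry
attribute [local instance] HasDerivedCategory.standard

namespace Groth.Agent.Lib.Helper5.RHomCoh

open Groth.Agent.Lib.Helper5.RHomQC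

variable {X : Scheme.{u}}

/-- `O[-i] ≅ (O[0])[-i]` for complexes -/
noncomputable def ocxShiftIso (X : Scheme.{u}) (i : ℤ) : (OCx X 0)⟦-i⟧ ≅ OCx X i :=
  ((CochainComplex.singleFunctors X.Modules).shiftIso (-i) i 0 (by omega)).app
    (Coh.structureModule X)

/-- `O[-i] ≅ (O[0])[-i]` in the derived category -/
noncomputable def ooShiftIso (X : Scheme.{u}) (i : ℤ) : (OO X 0)⟦-i⟧ ≅ OO X i :=
  ((DerivedCategory.singleFunctors X.Modules).shiftIso (-i) i 0 (by omega)).app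
    (Coh.structureModule X)

/-- `O[-i] ⊗ K ≅ K[-i]` for complexes -/
noncomputable def tensorOCxIso (K : CochainComplex X.Modules ℤ) (i : ℤ) :
    (DCoh.tensorCx.obj (OCx X i)).obj K ≅ K⟦-i⟧ :=
  (DCoh.tensorCx.mapIso (ocxShiftIso X i).symm).app K ≪≫
    CochainComplex.mapBifunctorShift₁Iso (OCx X 0) K DCoh.tensorBi (-i) ≪≫
    (shiftFunctor (CochainComplex X.Modules ℤ) (-i)).mapIso (tensorCxUnitIso K).symm

/-- **`O[-i] ⊗^L K ≅ K[-i]`** -/
noncomputable def ltensorOOIso (K : CochainComplex X.Modules ℤ) [DCoh.HasLTensorCx K] (i : ℤ) :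
    (DCoh.LTensorCx K).obj (OO X i) ≅ (DerivedCategory.Q.obj K)⟦-i⟧ :=
  Groth.Agent.Lib.Helper5.LTenAll.ltensorObjIsoOfKFlat (E := K) (OCx X i)
    (Groth.Agent.Lib.Helper5.LTenDer.isKFlat_of_isStrictlyPerfect _ (isStrictlyPerfect_OCx i)) ≪≫
    DerivedCategory.Q.mapIso (tensorOCxIso K i) ≪≫
    (DerivedCategory.Q.commShiftIso (-i)).app K

end Groth.Agent.Lib.Helper5.RHomCoh
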