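import Mathlib
import Groth.Prelude.Def_DCoh4
import Groth.Agent.Lib.Helper5.RHomQC.Shriek1
import Groth.Agent.Lib.Helper5.Perf.Pull
import Groth.Agent.Lib.Helper5.QC.TildeExact

/-!
# The structure sheaf under restriction and under the tilde functor (helper5)
-/
set_option autoImplicit false
set_option linter.unusedSectionVars false
set_option linter.unusedVariables false
universe u
open CategoryTheory CategoryTheory.Limits AlgebraicGeometry
attribute [local instance] HasDerivedCategory.standard

namespace Groth.Agent.Lib.Helper5.RHomCoh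

open Groth.Agent.Lib.Helper5.RHomQC Groth.Agent.Lib.Helper5.QC

variable {X U : Scheme.{u}} (j : U ⟶ X) [IsOpenImmersion j]

/-- restriction of the structure module -/
noncomputable def restrictUnitIso :
    (Scheme.Modules.restrictFunctor j).obj (Coh.structureModule X) ≅ Coh.structureModule U :=
  (Scheme.Modules.restrictFunctorIsoPullback j).app _ ≪≫
    Groth.Agent.Lib.Helper5.PerfPull.unitIso j

/-- `(O_X[0])|_U ≅ O_U[0]` -/
noncomputable def restrictOOIso : (DCoh.restrictD j).obj (OO X 0) ≅ OO U 0 :=
  ((Scheme.Modules.restrictFunctor j).mapDerivedCategorySingleFunctor 0).app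
      (Coh.structureModule X) ≪≫
    (DerivedCategory.singleFunctor U.Modules 0).mapIso (restrictUnitIso j)

/-- the tilde of `R[0]` is `O[0]` -/
noncomputable def tildeOOIso (R : CommRingCat.{u}) :
    (DCoh.tildeD R).obj
      ((DerivedCategory.singleFunctor (ModuleCat.{u} R) 0).obj (ModuleCat.of R R)) ≅
      OO (Spec R) 0 :=
  ((tilde.functor R).mapDerivedCategorySingleFunctor 0).app (ModuleCat.of R R) ≪≫
    (DerivedCategory.singleFunctor (Spec R).Modules 0).mapIso (tildeSelf (R := R))

end Groth.Agent.Lib.Helper5.RHomCoh
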