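import Mathlib
import Groth.Prelude.Def_DCoh4
import Groth.Agent.Lib.Helper5.DCenter.Sch
import Groth.Agent.Lib.Helper5.RHomQC.LinTen
import Groth.Agent.Lib.Helper5.BvdB.Adj2
import Groth.Agent.Lib.Helper5.RHomQC.Local

/-!
# Finite generation of `Hom` groups of `D(O_X)` under the action of global functions (helper5)
-/
set_option autoImplicit false
set_option linter.unusedSectionVars false
set_option linter.unusedVariables false
universe u
open CategoryTheory CategoryTheory.Limits AlgebraicGeometry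
attribute [local instance] HasDerivedCategory.standard

namespace Groth.Agent.Lib.Helper5.RHomCoh

open Groth.Agent.Lib.Helper5.DCenter Groth.Agent.Lib.Helper5.RHomQC

variable {X Y : Scheme.{u}}

/-- `Hom(A, B)` is finitely generated under the action of the global functions -/
def FinHom (A B : DCoh.D X) : Prop :=
  ∃ (n : ℕ) (g : Fin n → (A ⟶ B)), ∀ f : A ⟶ B, ∃ c : Fin n → Coh.Γtop X,
    f = ∑ k, g k ≫ (mulΓD (c k)).app B

/-- transport along an additive surjection compatible with the actions -/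
theorem FinHom.of_surj {A B : DCoh.D X} {A' B' : DCoh.D Y} (σ : Coh.Γtop X → Coh.Γtop Y)
    (φ : (A ⟶ B) →+ (A' ⟶ B')) (hφ : Function.Surjective φ)
    (hz : ∀ (f : A ⟶ B) (r : Coh.Γtop X),
      φ (f ≫ (mulΓD r).app B) = φ f ≫ (mulΓD (σ r)).app B') (h : FinHom A B) :
    FinHom A' B' := by
  obtain ⟨n, g, hg⟩ := h
  refine ⟨n, fun k => φ (g k), fun f' => ?_⟩
  obtain ⟨f, rfl⟩ := hφ f'
  obtain ⟨c, hc⟩ := hg f
  refine ⟨fun k => σ (c k), ?_⟩
  conv_lhs => rw [hc]
  rw [map_sum]
  exact Finset.sum_congr rfl (fun k _ => hz _ _)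

/-- invariance under isomorphisms -/
theorem FinHom.of_iso {A B A' B' : DCoh.D X} (eA : A ≅ A') (eB : B ≅ B') (h : FinHom A B) :
    FinHom A' B' := by
  refine h.of_surj id
    { toFun := fun f => eA.inv ≫ f ≫ eB.hom
      map_zero' := by rw [zero_comp, comp_zero]
      map_add' := fun f g => by rw [Preadditive.add_comp, Preadditive.comp_add] }
    (fun f' => ⟨eA.hom ≫ f' ≫ eB.inv, ?_⟩) (fun f r => ?_)
  · change eA.inv ≫ (eA.hom ≫ f' ≫ eB.inv) ≫ eB.hom = f'
    rw [Category.assoc, Category.assoc, Iso.inv_hom_id, Category.comp_id, Iso.inv_hom_id_assoc]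
  · change eA.inv ≫ (f ≫ (mulΓD r).app B) ≫ eB.hom = (eA.inv ≫ f ≫ eB.hom) ≫ (mulΓD r).app B'
    have h1 : (mulΓD r).app B ≫ eB.hom = eB.hom ≫ (mulΓD r).app B' :=
      (centerD_comm (mulΓ r) eB.hom).symm
    rw [Category.assoc, h1, Category.assoc, Category.assoc]

/-- restriction along an open immersion inducing a full functor -/
theorem FinHom.restrictD {U : Scheme.{u}} (j : U ⟶ X) [IsOpenImmersion j]
    [(DCoh.restrictD j).Full] {A B : DCoh.D X} (h : FinHom A B) :
    FinHom ((DCoh.restrictD j).obj A) ((DCoh.restrictD j).obj B) := by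
  refine h.of_surj (fun r => j.appTop.hom r) ((DCoh.restrictD j).mapAddHom)
    (Functor.map_surjective _) (fun f r => ?_)
  change (DCoh.restrictD j).map (f ≫ (mulΓD r).app B) = _
  rw [Functor.map_comp, restrictD_mulΓD]
  rfl

/-- restriction along an isomorphism reflects finite generation -/
theorem FinHom.of_restrictD_iso (φ : Y ≅ X) {A B : DCoh.D X}
    (h : FinHom ((DCoh.restrictD φ.hom).obj A) ((DCoh.restrictD φ.hom).obj B)) : FinHom A B := by
  let e := Groth.Agent.Lib.Helper5.BvdB.restrictDEquiv φ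
  haveI : (DCoh.restrictD φ.inv).IsEquivalence := e.isEquivalence_inverse
  have h2 := FinHom.restrictD φ.inv h
  exact h2.of_iso (e.unitIso.app A).symm (e.unitIso.app B).symm

/-- restriction along an isomorphism preserves finite generation -/
theorem FinHom.restrictD_iso (φ : Y ≅ X) {A B : DCoh.D X} (h : FinHom A B) :
    FinHom ((DCoh.restrictD φ.hom).obj A) ((DCoh.restrictD φ.hom).obj B) := by
  let e := Groth.Agent.Lib.Helper5.BvdB.restrictDEquiv φ
  haveI : (DCoh.restrictD φ.hom).IsEquivalence := e.isEquivalence_functor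
  exact FinHom.restrictD φ.hom h

/-- transport along the adjunction `- ⊗^L K ⊣ RHom(K, -)` -/
theorem FinHom.rhom (K : CochainComplex X.Modules ℤ) [DCoh.HasLTensorCx K] [DCoh.HasRSheafHom K]
    {S L : DCoh.D X} (h : FinHom ((DCoh.LTensorCx K).obj S) L) :
    FinHom S ((DCoh.RSheafHom K).obj L) := by
  haveI : PreservesColimitsOfSize.{0, 0} (DCoh.LTensorCx K) :=
    (DCoh.RSheafHomAdj K).leftAdjoint_preservesColimits
  haveI : PreservesBinaryBiproducts (DCoh.LTensorCx K) :=
    preservesBinaryBiproducts_of_preservesBinaryCoproducts _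
  haveI : (DCoh.LTensorCx K).Additive := Functor.additive_of_preservesBinaryBiproducts _
  refine h.of_surj id ((DCoh.RSheafHomAdj K).homAddEquiv S L).toAddMonoidHom
    ((DCoh.RSheafHomAdj K).homAddEquiv S L).surjective (fun f r => ?_)
  change (DCoh.RSheafHomAdj K).homEquiv S L (f ≫ (mulΓD r).app L) =
    (DCoh.RSheafHomAdj K).homEquiv S L f ≫ (mulΓD r).app ((DCoh.RSheafHom K).obj L)
  rw [centerD_comm, ← ltensor_map_center, Adjunction.homEquiv_naturality_left, centerD_comm]
  rfl

/-- the central elements commute with the shift -/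
theorem mulΓD_shift (r : Γ(X, ⊤)) (B : DCoh.D X) (m : ℤ) :
    (shiftFunctor (DCoh.D X) m).map ((mulΓD r).app B) = (mulΓD r).app (B⟦m⟧) := by
  letI : X.Over (Spec (CommRingCat.of Γ(X, ⊤))) := overΓ X
  have h1 : ∀ K : DCoh.D X, (mulΓD r).app K = r • 𝟙 K := fun K => by
    have h := smul_id_eq Γ(X, ⊤) r K
    rw [h]
    have h2 : Coh.toGlobal (X ↘ Spec (CommRingCat.of Γ(X, ⊤))) r = r := gf_overΓ X r
    rw [h2]
  rw [h1, h1, Functor.map_smul]
  congr 1
  exact CategoryTheory.Functor.map_id _ _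

/-- transport along the shift -/
theorem FinHom.shift {A B : DCoh.D X} (n : ℤ) (h : FinHom (A⟦n⟧) B) : FinHom A (B⟦-n⟧) := by
  haveI : (shiftEquiv (DCoh.D X) n).functor.Additive :=
    inferInstanceAs (shiftFunctor (DCoh.D X) n).Additive
  let adj := (shiftEquiv (DCoh.D X) n).toAdjunction
  refine h.of_surj id (adj.homAddEquiv A B).toAddMonoidHom
    (adj.homAddEquiv A B).surjective (fun f r => ?_)
  change adj.homEquiv A B (f ≫ (mulΓD r).app B) =
    adj.homEquiv A B f ≫ (mulΓD r).app (B⟦-n⟧)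
  rw [Adjunction.homEquiv_naturality_right, ← mulΓD_shift]
  rfl

/-- transport along the shift, general form -/
theorem FinHom.shift₁ {A B : DCoh.D X} (n m : ℤ) (hnm : n + m = 0) (h : FinHom (A⟦n⟧) B) :
    FinHom A (B⟦m⟧) := by
  haveI : (shiftEquiv' (DCoh.D X) n m hnm).functor.Additive :=
    inferInstanceAs (shiftFunctor (DCoh.D X) n).Additive
  let adj := (shiftEquiv' (DCoh.D X) n m hnm).toAdjunction
  refine h.of_surj id (adj.homAddEquiv A B).toAddMonoidHom
    (adj.homAddEquiv A B).surjective (fun f r => ?_)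
  change adj.homEquiv A B (f ≫ (mulΓD r).app B) =
    adj.homEquiv A B f ≫ (mulΓD r).app (B⟦m⟧)
  rw [Adjunction.homEquiv_naturality_right, ← mulΓD_shift]
  rfl

/-- transport along the shift, converse direction -/
theorem FinHom.shift₂ {A B : DCoh.D X} (n m : ℤ) (hnm : n + m = 0) (h : FinHom A (B⟦m⟧)) :
    FinHom (A⟦n⟧) B := by
  haveI : (shiftEquiv' (DCoh.D X) n m hnm).functor.Additive :=
    inferInstanceAs (shiftFunctor (DCoh.D X) n).Additive
  let adj := (shiftEquiv' (DCoh.D X) n m hnm).toAdjunction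
  refine h.of_surj id (adj.homAddEquiv A B).symm.toAddMonoidHom
    (adj.homAddEquiv A B).symm.surjective (fun f r => ?_)
  apply (adj.homEquiv A B).injective
  change adj.homEquiv A B ((adj.homEquiv A B).symm (f ≫ (mulΓD r).app (B⟦m⟧))) =
    adj.homEquiv A B ((adj.homEquiv A B).symm f ≫ (mulΓD r).app B)
  rw [Equiv.apply_symm_apply, Adjunction.homEquiv_naturality_right, Equiv.apply_symm_apply,
    ← mulΓD_shift]
  rfl

end Groth.Agent.Lib.Helper5.RHomCoh
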