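import Mathlib
import Groth.Prelude.Def_DCoh4
import Groth.Agent.Lib.Helper5.RHomCoh.FinHom
import Groth.Agent.Lib.Helper5.QC.SpecMain
import Groth.Agent.Lib.Helper5.QC.TildeExact

/-!
# Finite generation of `Hom` groups on `Spec R` and in `D(R)` (helper5)
-/
set_option autoImplicit false
set_option linter.unusedSectionVars false
set_option linter.unusedVariables false
universe u
open CategoryTheory CategoryTheory.Limits AlgebraicGeometry
attribute [local instance] HasDerivedCategory.standard

namespace Groth.Agent.Lib.Helper5.RHomCoh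

open Groth.Agent.Lib.Helper5.DCenter Groth.Agent.Lib.Helper5.QC

variable (R : CommRingCat.{u})

theorem tildeD_map_smul (r : R) {A₀ B₀ : DerivedCategory (ModuleCat.{u} R)} (g : A₀ ⟶ B₀) :
    (DCoh.tildeD R).map (r • g) =
      (DCoh.tildeD R).map g ≫ (mulΓD (specΓ R r)).app ((DCoh.tildeD R).obj B₀) := by
  have h : r • g = g ≫ (r • 𝟙 B₀) := by rw [Linear.comp_smul, Category.comp_id]
  rw [h, Functor.map_comp, tildeD_smul]

/-- finite `Hom` modules in `D(R)` give finitely generated `Hom` groups on `Spec R` -/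
theorem finHom_of_finite (A₀ B₀ : DerivedCategory (ModuleCat.{u} R))
    (h : Module.Finite R (A₀ ⟶ B₀)) :
    FinHom ((DCoh.tildeD R).obj A₀) ((DCoh.tildeD R).obj B₀) := by
  obtain ⟨n, g, hg⟩ := Module.Finite.exists_fin (R := R) (M := A₀ ⟶ B₀)
  haveI : (DCoh.tildeD R).Full := (tildeD_main R).1
  refine ⟨n, fun k => (DCoh.tildeD R).map (g k), fun f' => ?_⟩
  obtain ⟨f, rfl⟩ := (DCoh.tildeD R).map_surjective f'
  have hf : f ∈ Submodule.span R (Set.range g) := by rw [hg]; trivial
  obtain ⟨c, rfl⟩ := (Submodule.mem_span_range_iff_exists_fun R).1 hf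
  refine ⟨fun k => specΓ R (c k), ?_⟩
  rw [Functor.map_sum]
  exact Finset.sum_congr rfl (fun k _ => tildeD_map_smul R (c k) (g k))

/-- finitely generated `Hom` groups on `Spec R` give finite `Hom` modules in `D(R)` -/
theorem finite_of_finHom (A₀ B₀ : DerivedCategory (ModuleCat.{u} R))
    (h : FinHom ((DCoh.tildeD R).obj A₀) ((DCoh.tildeD R).obj B₀)) :
    Module.Finite R (A₀ ⟶ B₀) := by
  haveI : (DCoh.tildeD R).Full := (tildeD_main R).1
  haveI : (DCoh.tildeD R).Faithful := (tildeD_main R).2.1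
  obtain ⟨n, g', hg'⟩ := h
  let g : Fin n → (A₀ ⟶ B₀) := fun k => (DCoh.tildeD R).preimage (g' k)
  refine Module.Finite.of_surjective (Fintype.linearCombination R g) (fun f => ?_)
  obtain ⟨c', hc'⟩ := hg' ((DCoh.tildeD R).map f)
  let r : Fin n → R := fun k => (Scheme.ΓSpecIso R).hom.hom (c' k)
  have hr : ∀ k, specΓ R (r k) = c' k := fun k =>
    Iso.hom_inv_id_apply (C := CommRingCat) (Scheme.ΓSpecIso R) (c' k)
  refine ⟨r, ?_⟩
  apply (DCoh.tildeD R).map_injective
  rw [hc', Fintype.linearCombination_apply, Functor.map_sum]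
  refine Finset.sum_congr rfl (fun k _ => ?_)
  rw [tildeD_map_smul, hr, Functor.map_preimage]

end Groth.Agent.Lib.Helper5.RHomCoh
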