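import Mathlib
import Groth.Prelude.Def_Wider
import Groth.Agent.Lib.Helper3.FinCoh

/-!
# Finiteness of `Hom(K, L[p])` over a Noetherian ring for `K ∈ D^-_f`, `L ∈ D^+_f` (helper5)
-/
set_option autoImplicit false
set_option linter.unusedSectionVars false
set_option linter.unusedVariables false
universe u
open CategoryTheory CategoryTheory.Limits DerivedCategory Pretriangulated Triangulated
attribute [local instance] HasDerivedCategory.standard

namespace Groth.Agent.Lib.Helper5.RHomCoh

open Groth.Agent.Helper3.HomFin Groth.Agent.Helper3.FinAdj Groth.Agent.Helper3.DualFun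
  Groth.Agent.Helper3.FinCoh Groth.Agent.Helper3

variable {A : Type u} [CommRing A] [IsNoetherianRing A]

/-- maps from a bounded above object with finite cohomology to shifts of a bounded below object
with finite cohomology form finite modules -/
theorem finite_hom_ring (K₀ L₀ : Dual.D A) (b a : ℤ)
    (hKb : ∀ i : ℤ, b < i → Subsingleton (Dual.HD A K₀ i))
    (hK : ∀ i : ℤ, Module.Finite A (Dual.HD A K₀ i))
    [L₀.IsGE a] (hL : ∀ i : ℤ, Module.Finite A (Dual.HD A L₀ i)) (p : ℤ) :
    Module.Finite A (K₀ ⟶ L₀⟦p⟧) := by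
  have hpc : DRing.IsPseudoCoherent' A K₀ :=
    ((Groth.Agent.Helper5.PCCoh.s6943 A
      (fun I _ => Module.finitePresentation_of_finite A I) K₀ ⟨b, hKb⟩ 0).2).2
      (fun j => by
        haveI := hK j
        exact Module.finitePresentation_of_finite A _)
  haveI hKle : K₀.IsLE b := by
    rw [DerivedCategory.isLE_iff]
    intro i hi
    haveI := hKb i hi
    exact ModuleCat.isZero_of_subsingleton _
  let t : TStructure (Dual.D A) := TStructure.t
  let m : ℤ := b + p
  have hT := t.triangleLTGE_distinguished (m + 1) L₀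
  have h0 : ∀ Z : ModuleCat.{u} A, IsZero Z → Pfin Z := fun Z hZ => by
    haveI := ModuleCat.subsingleton_of_isZero hZ
    exact (inferInstance : Module.Finite A Z)
  let Y := (t.truncLT (m + 1)).obj L₀
  have hYfin : ∀ j, Pfin ((homologyFunctor _ j).obj Y) :=
    _root_.Helper5.DCat.prop_homology_truncLT Pfin L₀ (m + 1) hL h0
  haveI hYle : Y.IsLE m := by
    have h : t.IsLE ((t.truncLT (m + 1)).obj L₀) (m + 1 - 1) := inferInstance
    rwa [show m + 1 - 1 = m by omega] at h
  haveI hYge : Y.IsGE a := inferInstanceAs (t.IsGE ((t.truncLT (m + 1)).obj L₀) a)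
  haveI h1 : Module.Finite A (K₀ ⟶ Y⟦p⟧) :=
    finite_hom_of_bounded K₀ hpc Y a m hYfin p
  refine Module.Finite.of_surjective
    (Linear.rightComp A K₀ (((t.truncLTι (m + 1)).app L₀)⟦p⟧')) ?_
  intro g
  have hz : g ≫ (((t.truncGEπ (m + 1)).app L₀)⟦p⟧') = 0 := by
    haveI hge : ((t.truncGE (m + 1)).obj L₀).IsGE (m + 1) :=
      inferInstanceAs (t.IsGE ((t.truncGE (m + 1)).obj L₀) (m + 1))
    haveI : (((t.truncGE (m + 1)).obj L₀)⟦p⟧).IsGE (b + 1) :=
      t.isGE_shift ((t.truncGE (m + 1)).obj L₀) (m + 1) p (b + 1) (by omega)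
    exact t.zero_of_isLE_of_isGE _ b (b + 1) (by omega) (inferInstance) (inferInstance)
  obtain ⟨g', hg'⟩ := TriShift.shift_exact₂ _ hT p g hz
  exact ⟨g', hg'.symm⟩

end Groth.Agent.Lib.Helper5.RHomCoh
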