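import Mathlib
import Groth.Prelude.Def_DCoh4
import Groth.Agent.Lib.Helper5.Perf.PCCohNoeth

/-!
# Representing objects of `D_QCoh` on an affine chart by complexes of modules (helper5)
-/
set_option autoImplicit false
set_option linter.unusedSectionVars false
set_option linter.unusedVariables false
universe u
open CategoryTheory CategoryTheory.Limits AlgebraicGeometry
attribute [local instance] HasDerivedCategory.standard

namespace Groth.Agent.Lib.Helper5.RHomCoh

open Groth.Agent.Lib.Helper5.PCApprox Groth.Agent.Lib.Helper5.ExactHom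
  Groth.Agent.Lib.Helper5.LocalCoh Groth.Agent.Lib.Helper5.PerfCoh
  Groth.Agent.Lib.Helper5.RpushSupp Groth.Agent.Lib.Helper5.QC
  Groth.Agent.Lib.Helper5.TildePC Groth.Agent.Helper1 Groth.Agent.Lib.Helper5.PCCoh

variable {X : Scheme.{u}} {R : CommRingCat.{u}} (j : Spec R ⟶ X) [IsOpenImmersion j]

theorem isQCohD_restrictJ (E : DCoh.D X) (hE : DCoh.IsQCohD E) :
    DCoh.IsQCohD ((DCoh.restrictD j).obj E) := fun i => by
  haveI : (DCoh.HD E i).IsQuasicoherent := hE i
  haveI : ((DCoh.HD E i).restrict j).IsQuasicoherent :=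
    inferInstanceAs ((Scheme.Modules.restrictFunctor j).obj (DCoh.HD E i)).IsQuasicoherent
  exact QcAbel.isQuasicoherent_of_iso (hdRestrictJIso j E i).symm

theorem exists_tildeD_iso (E : DCoh.D X) (hE : DCoh.IsQCohD E) :
    ∃ E₀ : DerivedCategory (ModuleCat.{u} R),
      Nonempty ((DCoh.tildeD R).obj E₀ ≅ (DCoh.restrictD j).obj E) :=
  ((tildeD_main R).2.2 _).1 (isQCohD_restrictJ j E hE)

/-- the cohomology modules of the representing complex are the sections of the cohomology
sheaves -/
noncomputable def homologyΓIso (E : DCoh.D X) (E₀ : DerivedCategory (ModuleCat.{u} R))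
    (eE : (DCoh.tildeD R).obj E₀ ≅ (DCoh.restrictD j).obj E) (i : ℤ) :
    (DerivedCategory.homologyFunctor (ModuleCat.{u} R) i).obj E₀ ≅
      (moduleSpecΓFunctor (R := R)).obj ((DCoh.HD E i).restrict j) :=
  (tilde.toTildeΓNatIso (R := R)).app _ ≪≫ (moduleSpecΓFunctor (R := R)).mapIso
    (((derivedHomologyIso (tilde.functor R) i).app E₀).symm ≪≫
      (DerivedCategory.homologyFunctor _ i).mapIso eE ≪≫ hdRestrictJIso j E i)

variable (E : DCoh.D X) (E₀ : DerivedCategory (ModuleCat.{u} R))
    (eE : (DCoh.tildeD R).obj E₀ ≅ (DCoh.restrictD j).obj E) (i : ℤ)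

include eE in
theorem finite_homology_of_isCoh (hc : Coh.IsCoh (DCoh.HD E i)) :
    Module.Finite R ((DerivedCategory.homologyFunctor (ModuleCat.{u} R) i).obj E₀) := by
  have hfin : Module.Finite R Γ((DCoh.HD E i).restrict j, ⊤) :=
    AffFin.finite_restrict (DCoh.HD E i) hc.1 hc.2 j
  have hfin' : Module.Finite R ((moduleSpecΓFunctor (R := R)).obj ((DCoh.HD E i).restrict j)) :=
    hfin
  exact Module.Finite.equiv (homologyΓIso j E E₀ eE i).symm.toLinearEquiv

include eE in
theorem isZero_homology_of_isZero (hz : IsZero (DCoh.HD E i)) :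
    IsZero ((DerivedCategory.homologyFunctor (ModuleCat.{u} R) i).obj E₀) := by
  have hz1 : IsZero ((DCoh.HD E i).restrict j) :=
    Functor.map_isZero (Scheme.Modules.restrictFunctor j) hz
  exact IsZero.of_iso (Functor.map_isZero (moduleSpecΓFunctor (R := R)) hz1)
    (homologyΓIso j E E₀ eE i)

include eE in
theorem finite_Γ_of_finite_homology
    (h : Module.Finite R ((DerivedCategory.homologyFunctor (ModuleCat.{u} R) i).obj E₀)) :
    Module.Finite R Γ((DCoh.HD E i).restrict j, ⊤) := by
  have h' : Module.Finite R ((moduleSpecΓFunctor (R := R)).obj ((DCoh.HD E i).restrict j)) :=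
    Module.Finite.equiv (homologyΓIso j E E₀ eE i).toLinearEquiv
  exact h'

end Groth.Agent.Lib.Helper5.RHomCoh
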