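import Mathlib
import Groth.Prelude.Def_DCoh4
import Groth.Agent.Lib.Helper5.RHomCoh.FinHomTilde
import Groth.Agent.Lib.Helper5.RHomCoh.RingHom
import Groth.Agent.Lib.Helper5.RHomCoh.TildeRep
import Groth.Agent.Lib.Helper5.RHomCoh.OOShift
import Groth.Agent.Lib.Helper5.RHomCoh.UnitTilde

/-!
# Finiteness of the sections of `H^i RHom(K, L)` on an affine Noetherian scheme (helper5)
-/
set_option autoImplicit false
set_option linter.unusedSectionVars false
set_option linter.unusedVariables false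
universe u
open CategoryTheory CategoryTheory.Limits AlgebraicGeometry
attribute [local instance] HasDerivedCategory.standard

namespace Groth.Agent.Lib.Helper5.RHomCoh

open Groth.Agent.Lib.Helper5.RHomQC Groth.Agent.Lib.Helper5.QC

variable {X : Scheme.{u}} [IsAffine X]

theorem finite_Γ_HD_rhom [IsNoetherianRing Γ(X, ⊤)] (K : CochainComplex X.Modules ℤ) (b : ℤ)
    [(DCoh.toD X K).IsLE b] (hK : DCoh.IsCohD (DCoh.toD X K))
    [DCoh.HasLTensorCx K] [DCoh.HasRSheafHom K] (L : DCoh.D X) (a : ℤ) [L.IsGE a]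
    (hL : DCoh.IsCohD L) (hM : DCoh.IsQCohD ((DCoh.RSheafHom K).obj L)) (i : ℤ) :
    Module.Finite Γ(X, ⊤)
      Γ((DCoh.HD ((DCoh.RSheafHom K).obj L) i).restrict X.isoSpec.inv, ⊤) := by
  let R : CommRingCat.{u} := Γ(X, ⊤)
  let φ : Spec R ≅ X := X.isoSpec.symm
  let T := DCoh.restrictD φ.hom
  let M := (DCoh.RSheafHom K).obj L
  have hKq : DCoh.IsQCohD (DCoh.toD X K) := fun i => (hK i).1
  have hLq : DCoh.IsQCohD L := fun i => (hL i).1
  obtain ⟨E₀, ⟨eM⟩⟩ := exists_tildeD_iso φ.hom M hM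
  obtain ⟨K₀, ⟨eK⟩⟩ := exists_tildeD_iso φ.hom (DCoh.toD X K) hKq
  obtain ⟨L₀, ⟨eL⟩⟩ := exists_tildeD_iso φ.hom L hLq
  apply finite_Γ_of_finite_homology φ.hom M E₀ eM i
  -- the ring level input
  have hKb : ∀ i' : ℤ, b < i' → Subsingleton (Dual.HD R K₀ i') := fun i' hi' =>
    ModuleCat.subsingleton_of_isZero
      (isZero_homology_of_isZero φ.hom (DCoh.toD X K) K₀ eK i'
        (DerivedCategory.isZero_of_isLE (DCoh.toD X K) b i' hi'))
  have hKfin : ∀ i' : ℤ, Module.Finite R (Dual.HD R K₀ i') := fun i' =>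
    finite_homology_of_isCoh φ.hom (DCoh.toD X K) K₀ eK i' (hK i')
  have hLfin : ∀ i' : ℤ, Module.Finite R (Dual.HD R L₀ i') := fun i' =>
    finite_homology_of_isCoh φ.hom L L₀ eL i' (hL i')
  haveI : L₀.IsGE a := by
    rw [DerivedCategory.isGE_iff]
    intro i' hi'
    exact isZero_homology_of_isZero φ.hom L L₀ eL i'
      (DerivedCategory.isZero_of_isGE L a i' hi')
  have h0 : Module.Finite R (K₀ ⟶ L₀⟦i⟧) := finite_hom_ring K₀ L₀ b a hKb hKfin hLfin i
  have h1 := finHom_of_finite R _ _ h0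
  have h2 : FinHom (T.obj (DCoh.toD X K)) (T.obj (L⟦i⟧)) :=
    h1.of_iso eK (((DCoh.tildeD R).commShiftIso i).app L₀ ≪≫
      (shiftFunctor _ i).mapIso eL ≪≫ ((T.commShiftIso i).app L).symm)
  have h3 : FinHom (DCoh.toD X K) (L⟦i⟧) := FinHom.of_restrictD_iso φ h2
  have h4 : FinHom ((DCoh.toD X K)⟦-i⟧) L := FinHom.shift₂ (-i) i (by omega) h3
  have h5 : FinHom ((DCoh.LTensorCx K).obj (OO X i)) L :=
    h4.of_iso (ltensorOOIso K i).symm (Iso.refl _)
  have h6 : FinHom (OO X i) M := FinHom.rhom K h5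
  have h7 : FinHom ((OO X 0)⟦-i⟧) M := h6.of_iso (ooShiftIso X i).symm (Iso.refl _)
  have h8 : FinHom (OO X 0) (M⟦i⟧) := FinHom.shift₁ (-i) i (by omega) h7
  have h9 : FinHom (T.obj (OO X 0)) (T.obj (M⟦i⟧)) := FinHom.restrictD_iso φ h8
  have h10 : FinHom ((DCoh.tildeD R).obj (Dual.inD R R)) ((DCoh.tildeD R).obj (E₀⟦i⟧)) :=
    h9.of_iso (restrictOOIso φ.hom ≪≫ (tildeOOIso R).symm)
      ((T.commShiftIso i).app M ≪≫ (shiftFunctor _ i).mapIso eM.symm ≪≫
        (((DCoh.tildeD R).commShiftIso i).app E₀).symm)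
  have h11 : Module.Finite R (Dual.inD R R ⟶ E₀⟦i⟧) := finite_of_finHom R _ _ h10
  exact Module.Finite.equiv (Groth.Agent.Helper3.HomUnit.unitEquiv E₀ i)

end Groth.Agent.Lib.Helper5.RHomCoh
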