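import Mathlib
import Groth.Prelude.Def_DCoh4
import Groth.Agent.Lib.Helper5.RHomCoh.CohAff
import Groth.Agent.Lib.Helper5.RHomQC.PCLocal
import Groth.Agent.Lib.Helper5.RHomQC.TenBound
import Groth.Agent.Lib.Helper5.QC.RpushBound

/-!
# `RHom(K, L) ∈ D^+_Coh` for `K ∈ D^-_Coh`, `L ∈ D^+_Coh` on a locally Noetherian scheme (helper5)
-/
set_option autoImplicit false
set_option linter.unusedSectionVars false
set_option linter.unusedVariables false
universe u
open CategoryTheory CategoryTheory.Limits AlgebraicGeometry CategoryTheory.Triangulated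
  DerivedCategory
attribute [local instance] HasDerivedCategory.standard

namespace Groth.Agent.Lib.Helper5.RHomCoh

open Groth.Agent.Lib.Helper5.RHomQC Groth.Agent.Lib.Helper5.QC Groth.Agent.Lib.Helper5.ShriekProj
  Groth.Agent.Helper1

variable {X : Scheme.{u}}

/-- **`RHom(K, L)` is bounded below** -/
theorem isGE_rhom (K : CochainComplex X.Modules ℤ) (b : ℤ) [(DCoh.toD X K).IsLE b]
    [DCoh.HasLTensorCx K] [DCoh.HasRSheafHom K] (L : DCoh.D X) (a : ℤ) [L.IsGE a] :
    ((DCoh.RSheafHom K).obj L).IsGE (a - b) := by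
  haveI : PreservesColimitsOfSize.{0, 0} (DCoh.LTensorCx K) :=
    (DCoh.RSheafHomAdj K).leftAdjoint_preservesColimits
  haveI : PreservesBinaryBiproducts (DCoh.LTensorCx K) :=
    preservesBinaryBiproducts_of_preservesBinaryCoproducts _
  haveI : (DCoh.LTensorCx K).Additive := Functor.additive_of_preservesBinaryBiproducts _
  let t : TStructure (DCoh.D X) := TStructure.t
  change t.IsGE _ (a - b)
  rw [t.isGE_iff_orthogonal (a - b - 1) (a - b) (by omega)]
  intro Y f hY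
  haveI : Y.IsLE (a - b - 1) := hY
  have hle : ((DCoh.LTensorCx K).obj Y).IsLE (a - 1) := by
    rw [DerivedCategory.isLE_iff]
    intro i hi
    exact isZero_HD_ltensor K Y (a - b - 1) b
      (fun i hi => DerivedCategory.isZero_of_isLE Y (a - b - 1) i hi)
      (fun i hi => DerivedCategory.isZero_of_isLE (DCoh.toD X K) b i hi) i (by omega)
  have h0 : ((DCoh.RSheafHomAdj K).homEquiv Y L).symm f = 0 :=
    t.zero_of_isLE_of_isGE _ (a - 1) a (by omega) hle inferInstance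
  have h1 : f = (DCoh.RSheafHomAdj K).homAddEquiv Y L
      (((DCoh.RSheafHomAdj K).homEquiv Y L).symm f) :=
    (((DCoh.RSheafHomAdj K).homEquiv Y L).apply_symm_apply f).symm
  rw [h1, h0, map_zero]

/-- the local statement -/
theorem isCoh_HD_rhom_restrict [IsLocallyNoetherian X] (K : CochainComplex X.Modules ℤ) (b : ℤ)
    [(DCoh.toD X K).IsLE b] (hK : DCoh.IsCohD (DCoh.toD X K))
    [DCoh.HasLTensorCx K] [DCoh.HasRSheafHom K] (L : DCoh.D X) (a : ℤ) [L.IsGE a]
    (hL : DCoh.IsCohD L) (hMq : DCoh.IsQCohD ((DCoh.RSheafHom K).obj L)) (i : ℤ)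
    (V : X.Opens) (hV : IsAffineOpen V) :
    Coh.IsCoh ((DCoh.HD ((DCoh.RSheafHom K).obj L) i).restrict V.ι) := by
  haveI : IsAffine (V : Scheme.{u}) := hV
  haveI : IsLocallyNoetherian (V : Scheme.{u}) := isLocallyNoetherian_of_isOpenImmersion V.ι
  haveI : IsNoetherianRing Γ((V : Scheme.{u}), ⊤) :=
    IsLocallyNoetherian.component_noetherian ⟨⊤, isAffineOpen_top (V : Scheme.{u})⟩
  haveI : DCoh.HasLTensorCx (KV V K) := Groth.Agent.Lib.Helper5.LTenAll.hasLTensorCx _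
  haveI : DCoh.HasRSheafHom (KV V K) := hasRSheafHom_restrict V K
  let LV : DCoh.D (V : Scheme.{u}) := (DCoh.restrictD V.ι).obj L
  let eK : DCoh.toD (V : Scheme.{u}) (KV V K) ≅ (DCoh.restrictD V.ι).obj (DCoh.toD X K) :=
    ((Scheme.Modules.restrictFunctor V.ι).mapDerivedCategoryFactors.app K).symm
  haveI : ((DCoh.restrictD V.ι).obj (DCoh.toD X K)).IsLE b := isLE_restrictD V _ b
  haveI : (DCoh.toD (V : Scheme.{u}) (KV V K)).IsLE b :=
    (TStructure.t : TStructure (DCoh.D (V : Scheme.{u}))).isLE_of_iso eK.symm b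
  haveI : LV.IsGE a := isGE_restrictD' V L a
  have hcohR : ∀ (E : DCoh.D X), DCoh.IsCohD E → DCoh.IsCohD ((DCoh.restrictD V.ι).obj E) :=
    fun E hE i' =>
      Groth.Agent.Lib.Helper5.LocalCoh.isCoh_of_iso
        (Groth.Agent.Lib.Helper5.RpushSupp.hdRestrictDIso E V i')
        (Groth.Agent.Helper1.FinPush.isCoh_restrict V.ι (DCoh.HD E i') (hE i'))
  have hKV : DCoh.IsCohD (DCoh.toD (V : Scheme.{u}) (KV V K)) := fun i' =>
    Groth.Agent.Lib.Helper5.LocalCoh.isCoh_of_iso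
      ((DerivedCategory.homologyFunctor _ i').mapIso eK.symm) (hcohR _ hK i')
  have hLV : DCoh.IsCohD LV := hcohR L hL
  -- the comparison with the `RHom` on `V`
  let MV : DCoh.D (V : Scheme.{u}) := (DCoh.RSheafHom (KV V K)).obj LV
  let eM : (DCoh.restrictD V.ι).obj ((DCoh.RSheafHom K).obj L) ≅ MV :=
    (rhomRestrictIso V K).app L
  let e : (DCoh.HD ((DCoh.RSheafHom K).obj L) i).restrict V.ι ≅ DCoh.HD MV i :=
    (Groth.Agent.Lib.Helper5.RpushSupp.hdRestrictDIso ((DCoh.RSheafHom K).obj L) V i) ≪≫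
      (DerivedCategory.homologyFunctor _ i).mapIso eM
  have hMVq : DCoh.IsQCohD MV :=
    isQCohD_of_iso eM (isQCohD_restrictD V _ hMq)
  haveI : (DCoh.HD MV i).IsQuasicoherent := hMVq i
  have hft : SheafOfModules.IsFiniteType.{u, u, u} (DCoh.HD MV i) := by
    refine FtLocal.isFiniteType_of_affine_charts (DCoh.HD MV i) (I := PUnit.{u + 1})
      (fun _ => Γ((V : Scheme.{u}), ⊤)) (fun _ => (V : Scheme.{u}).isoSpec.inv) ?_ (fun _ => ?_)
    · rw [iSup_const, Scheme.Hom.opensRange_of_isIso]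
    · exact finite_Γ_HD_rhom (KV V K) b hKV LV a hLV hMVq i
  exact Groth.Agent.Lib.Helper5.LocalCoh.isCoh_of_iso e.symm ⟨hMVq i, hft⟩

/-- **`RHom(K, L)` has coherent cohomology** -/
theorem isCohD_rhom [IsLocallyNoetherian X] (K : CochainComplex X.Modules ℤ) (b : ℤ)
    [(DCoh.toD X K).IsLE b] (hK : DCoh.IsCohD (DCoh.toD X K))
    [DCoh.HasLTensorCx K] [DCoh.HasRSheafHom K] (L : DCoh.D X) (a : ℤ) [L.IsGE a]
    (hL : DCoh.IsCohD L) : DCoh.IsCohD ((DCoh.RSheafHom K).obj L) := by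
  have hKq : DCoh.IsQCohD (DCoh.toD X K) := fun i => (hK i).1
  have hLq : DCoh.IsQCohD L := fun i => (hL i).1
  have hpc : ∀ m : ℤ, DCoh.IsPseudoCoherentD m (DCoh.toD X K) := fun m =>
    Groth.Agent.Lib.Helper5.PCCoh.isPC_of_isCoh_HD (DCoh.toD X K) hKq m (fun i _ => hK i) b
      (fun i hi => DerivedCategory.isZero_of_isLE (DCoh.toD X K) b i hi)
  have hMq : DCoh.IsQCohD ((DCoh.RSheafHom K).obj L) := fun j =>
    isQuasicoherent_HD_rhom K (a - j - 1) (hpc _) L hLq a j (by omega)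
  intro i
  apply Groth.Agent.Lib.Helper5.LocalCoh.isCoh_of_locally
  intro x
  obtain ⟨_, ⟨V, hV, rfl⟩, hxV, -⟩ :=
    X.isBasis_affineOpens.exists_subset_of_mem_open (Set.mem_univ x) isOpen_univ
  exact ⟨V, hxV, isCoh_HD_rhom_restrict K b hK L a hL hMq i V hV⟩

end Groth.Agent.Lib.Helper5.RHomCoh
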